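import Groth.Agent.SmoothReg.Scheme
import Groth.Agent.CDiv6.Factorial
import Groth.Agent.QCoh.Devissage
import Groth.Agent.H23.TopDim

/-!
# Curves through a closed point meeting a given open subset
-/

set_option autoImplicit false
set_option backward.isDefEq.respectTransparency false
set_option backward.isDefEq.respectTransparency.types false
set_option linter.style.haveILetI false

universe u

open CategoryTheory AlgebraicGeometry TopologicalSpace

namespace Groth.Agent.CurveThrough

/-- In a noetherian local domain of dimension at least two every nonzero element avoids some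
nonzero non-maximal prime. -/
theorem exists_prime_notMem {A : Type*} [CommRing A] [IsDomain A] [IsNoetherianRing A] [IsLocalRing A]
    (hA : 2 ≤ ringKrullDim A) {f : A} (hf : f ≠ 0) :
    ∃ q : Ideal A, q.IsPrime ∧ q ≠ ⊥ ∧ q ≠ IsLocalRing.maximalIdeal A ∧ f ∉ q := by
  by_contra h
  push Not at h
  let m := IsLocalRing.maximalIdeal A
  have hm2 : 2 ≤ m.height := by
    rw [← IsLocalRing.maximalIdeal_height_eq_ringKrullDim] at hA
    exact (WithBot.coe_le_coe (α := ℕ∞)).1 hA
  let S := (Ideal.span {f}).minimalPrimes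
  have hS : S.Finite := Ideal.finite_minimalPrimes_of_isNoetherianRing A _
  have hnot : ∀ q : Ideal A, q.height ≤ 1 → q ≠ m := by
    intro q hq he
    rw [he] at hq
    exact absurd (hm2.trans hq) (by norm_num)
  have hcov : (m : Set A) ⊆ ⋃ q ∈ (↑hS.toFinset : Set (Ideal A)), (id q : Ideal A) := by
    intro g hg
    simp only [Set.mem_iUnion, Set.Finite.coe_toFinset, SetLike.mem_coe, id]
    by_cases hg0 : g = 0
    · obtain ⟨⟨q, hq⟩⟩ : Nonempty S := Ideal.nonempty_minimalPrimes fun ht => by
        have hu : IsUnit f := Ideal.span_singleton_eq_top.1 ht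
        obtain ⟨P, hP, hP0, hPm⟩ : ∃ P : Ideal A, P.IsPrime ∧ P ≠ ⊥ ∧ P ≠ m := by
          by_contra hall
          push Not at hall
          have : m.height ≤ ((1 : ℕ) : ℕ∞) := by
            rw [Ideal.height_le_iff]
            intro P hP hlt
            have hb : P = ⊥ := by
              by_contra hb
              exact hlt.ne (hall P hP hb)
            rw [hb, Ideal.height_bot]
            exact zero_lt_one
          exact hnot m this rfl
        exact hP.ne_top (Ideal.eq_top_of_isUnit_mem _ (h P hP hP0 hPm) hu)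
      exact ⟨q, hq, hg0 ▸ q.zero_mem⟩
    · obtain ⟨⟨q, hq⟩⟩ := (Ideal.span {g}).nonempty_minimalPrimes (fun ht => hg (Ideal.span_singleton_eq_top.1 ht))
      haveI := hq.1.1
      have hq1 : q.height ≤ 1 := Ideal.height_le_one_of_isPrincipal_of_mem_minimalPrimes _ q hq
      have hgq : g ∈ q := hq.1.2 (Ideal.mem_span_singleton_self g)
      have hfq : f ∈ q := h q inferInstance (fun hb => hg0 (by rw [hb] at hgq; exact hgq)) (hnot q hq1)
      refine ⟨q, ⟨⟨inferInstance, (Ideal.span_singleton_le_iff_mem _).2 hfq⟩, ?_⟩, hgq⟩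
      rintro P ⟨hP, hfP⟩ hPq
      haveI := hP
      refine le_of_eq (eq_of_le_of_not_lt hPq fun hlt => ?_).symm
      have h1 := Ideal.height_strict_mono_of_isPrime hlt
      have hPb : P ≠ ⊥ := fun hb => hf (by
        have := hfP (Ideal.mem_span_singleton_self f)
        rwa [hb] at this)
      have h2 : 1 ≤ P.height := by
        by_contra hlt'
        exact hPb (Ideal.height_eq_zero_iff_eq_bot.1 (ENat.lt_one_iff_eq_zero.1 (not_le.1 hlt')))
      exact absurd (h2.trans_lt h1) (not_lt.2 hq1)
  obtain ⟨q, hq, hmq⟩ := (Ideal.subset_union_prime (f := fun q : Ideal A => q) ⊥ ⊥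
    (fun q hq _ _ => (hS.mem_toFinset.1 hq).1.1)).1 hcov
  have hqS := hS.mem_toFinset.1 hq
  haveI := hqS.1.1
  exact hnot q (Ideal.height_le_one_of_isPrincipal_of_mem_minimalPrimes _ q hqS)
    (((IsLocalRing.maximalIdeal.isMaximal A).eq_of_le hqS.1.1.ne_top hmq).symm)

/-- A smaller irreducible closed subset through `z` meeting `W`. -/
theorem exists_point {k : Type u} [Field k] {Y : Scheme.{u}} (f : Y ⟶ Spec (CommRingCat.of k))
    [LocallyOfFiniteType f] [IsIntegral Y] {z : Y} (hz : IsClosed ({z} : Set Y)) (W : Y.Opens)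
    (hW : (W : Set Y).Nonempty) (hdim : 2 ≤ topologicalKrullDim Y) :
    ∃ q : Y, q ⤳ z ∧ q ∈ W ∧ q ≠ genericPoint Y := by
  haveI : IsLocallyNoetherian Y := LocallyOfFiniteType.isLocallyNoetherian f
  let φ := Y.fromSpecStalk z
  let A := Y.presheaf.stalk z
  have hη : genericPoint Y ⤳ z := genericPoint_specializes z
  have hηW : genericPoint Y ∈ W := ((genericPoint_spec Y).mem_open_set_iff W.isOpen).2 (by simpa using hW)
  obtain ⟨_, ⟨f0, rfl⟩, hmem, hsub⟩ := (PrimeSpectrum.isTopologicalBasis_basic_opens (R := A)).exists_subset_of_mem_open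
    (a := CDiv6.primeOf hη) (u := φ ⁻¹' (W : Set Y))
    (show φ (CDiv6.primeOf hη) ∈ W by rw [CDiv6.fromSpecStalk_primeOf]; exact hηW)
    (W.isOpen.preimage φ.continuous)
  have hf0 : f0 ≠ 0 := fun h0 => by
    rw [h0] at hmem
    exact hmem (zero_mem _)
  obtain ⟨q, hq, hqb, hqm, hfq⟩ := exists_prime_notMem (A := A)
    (by rw [SmoothReg.ringKrullDim_stalk_closedPoint f hz]; exact hdim) hf0
  refine ⟨φ ⟨q, hq⟩, CDiv6.fromSpecStalk_specializes _, hsub hfq, fun he => hqb ?_⟩
  have h1 : φ (⟨q, hq⟩ : PrimeSpectrum A) = φ ⟨⊥, Ideal.isPrime_bot⟩ := by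
    rw [he]
    refine ((CDiv6.fromSpecStalk_primeOf hη).symm.trans (congrArg φ ?_))
    refine PrimeSpectrum.ext (le_antisymm ?_ bot_le)
    intro g hg
    have h2 : (⟨⊥, Ideal.isPrime_bot⟩ : PrimeSpectrum A) ⤳ CDiv6.primeOf hη :=
      (PrimeSpectrum.le_iff_specializes _ _).1 bot_le
    have h3 : φ ⟨⊥, Ideal.isPrime_bot⟩ ⤳ genericPoint Y :=
      (h2.map φ.continuous).trans (specializes_of_eq (CDiv6.fromSpecStalk_primeOf hη))
    have h4 := φ.isEmbedding.injective ((h3.antisymm (genericPoint_specializes _)).eq.trans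
      (CDiv6.fromSpecStalk_primeOf hη).symm)
    rw [← h4] at hg
    exact hg
  exact congrArg PrimeSpectrum.asIdeal (φ.isEmbedding.injective h1)

theorem dim_eq_one : ∀ d : WithBot ℕ∞, ¬ d ≤ 0 → ¬ 2 ≤ d → d = 1
  | ⊥, h, _ => absurd bot_le h
  | (b : ℕ∞), h, h' => by
    induction b using ENat.recTopCoe with
    | top => exact absurd (WithBot.coe_le_coe.2 le_top) h'
    | coe n =>
      have h1 : ¬ n ≤ 0 := fun hn => h (by exact_mod_cast hn)
      have h2 : ¬ 2 ≤ n := fun hn => h' (WithBot.coe_le_coe.2 (show ((2 : ℕ) : ℕ∞) ≤ n from Nat.cast_le.2 hn))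
      obtain rfl : n = 1 := by omega
      rfl

/-- An integral closed curve through a closed point meeting an open subset missing it. -/
theorem exists_curve_through {k : Type u} [Field k] {X : Scheme.{u}} (f : X ⟶ Spec (CommRingCat.of k))
    [LocallyOfFiniteType f] [IrreducibleSpace X] [NoetherianSpace X] {z : X} (hz : IsClosed ({z} : Set X))
    (W : X.Opens) (hW : (W : Set X).Nonempty) (hzW : z ∉ W) :
    ∃ (Y : Scheme.{u}) (i : Y ⟶ X), IsClosedImmersion i ∧ IsIntegral Y ∧ topologicalKrullDim Y = 1 ∧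
      z ∈ Set.range i ∧ ∃ y, i y ∈ W := by
  let P : Closeds X → Prop := fun T => z ∈ T ∧ IsIrreducible (T : Set X) ∧ ((T : Set X) ∩ W).Nonempty
  have hne : ∃ T, P T := ⟨⊤, trivial, IrreducibleSpace.isIrreducible_univ X, by simpa using hW⟩
  obtain ⟨T, ⟨hzT, hT, hTW⟩, hmin⟩ := (wellFounded_lt (α := Closeds X)).has_min {T | P T} hne
  obtain ⟨η, hη⟩ := QuasiSober.sober hT T.isClosed
  let I := Scheme.IdealSheafData.vanishingIdeal (Closeds.closure {η})
  haveI : IsIntegral I.subscheme := QCoh.isIntegral_closure_point η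
  have hr : Set.range I.subschemeι = (T : Set X) := by
    rw [Scheme.IdealSheafData.range_subschemeι, Scheme.IdealSheafData.coe_support_vanishingIdeal]
    exact hη.def
  let i := I.subschemeι
  obtain ⟨z', hz'⟩ : z ∈ Set.range i := hr.symm ▸ hzT
  obtain ⟨w, hwT, hwW⟩ := hTW
  obtain ⟨w', rfl⟩ : w ∈ Set.range i := hr.symm ▸ hwT
  have hz'c : IsClosed ({z'} : Set I.subscheme) := by
    have : ({z'} : Set I.subscheme) = i ⁻¹' {z} := by
      ext a
      simp only [Set.mem_singleton_iff, Set.mem_preimage]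
      exact ⟨fun ha => ha ▸ hz', fun ha => i.isClosedEmbedding.injective (ha.trans hz'.symm)⟩
    rw [this]
    exact hz.preimage i.continuous
  refine ⟨_, i, inferInstance, inferInstance, dim_eq_one _ (fun h0 => ?_) (fun h2 => ?_), ⟨z', hz'⟩, w', hwW⟩
  · haveI := LocallyOfFiniteType.isLocallyNoetherian (i ≫ f)
    haveI : NoetherianSpace I.subscheme := i.isClosedEmbedding.isInducing.noetherianSpace
    obtain ⟨-, hd⟩ := H23.TopDim.finite_discrete_of_dim_le_zero h0
    haveI := hd
    haveI : Subsingleton I.subscheme := PreconnectedSpace.trivial_of_discrete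
    exact hzW (by rw [← hz', ← Subsingleton.elim w' z']; exact hwW)
  · obtain ⟨q, hqz, hqW, hqη⟩ := exists_point (i ≫ f) hz'c (i ⁻¹ᵁ W) ⟨w', hwW⟩ h2
    refine hmin ⟨closure {i q}, isClosed_closure⟩ ⟨?_, isIrreducible_singleton.closure, i q, subset_closure rfl, hqW⟩
      (lt_of_le_of_ne (closure_minimal (Set.singleton_subset_iff.2 (hr ▸ Set.mem_range_self q)) T.isClosed) fun he => ?_)
    · exact specializes_iff_mem_closure.1 (hz' ▸ hqz.map i.continuous)
    · have h1 : i q ⤳ i (genericPoint I.subscheme) := specializes_iff_mem_closure.2 (by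
        rw [show closure {i q} = (T : Set X) from congrArg SetLike.coe he, ← hr]
        exact Set.mem_range_self _)
      have h3 := i.isClosedEmbedding.isInducing.specializes_iff.1 h1
      exact hqη (h3.antisymm (genericPoint_specializes q)).eq

end Groth.Agent.CurveThrough
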